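import Groth.Agent.Lib.LocClosedRep.Basic
import Mathlib.AlgebraicGeometry.Morphisms.FinitePresentation
import Mathlib.AlgebraicGeometry.Morphisms.Immersion
import Mathlib.AlgebraicGeometry.ResidueField

/-! # Local conditions cut out by two finitely generated ideals are finitely presented immersions -/

set_option linter.style.haveILetI false
set_option backward.isDefEq.respectTransparency false
set_option maxHeartbeats 1000000
universe u

open CategoryTheory CategoryTheory.Limits AlgebraicGeometry Opposite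

namespace GrothLib.LocClosedRep

theorem exists_notMem_of_map_eq_top {A B : Type u} [CommRing A] [CommRing B] (φ : A →+* B) (J : Ideal A)
    (h : J.map φ = ⊤) (P : Ideal B) (hP : P ≠ ⊤) : ∃ j ∈ J, φ j ∉ P := by
  by_contra hne
  refine hP (top_le_iff.1 ?_)
  rw [← h]
  exact Ideal.map_le_iff_le_comap.2 fun j hj => by
    by_contra hjp
    exact hne ⟨j, hj, hjp⟩

theorem mem_primeIdealOf_iff {T : Scheme.{u}} {W : T.Opens} (hW : IsAffineOpen W) {x : T} (hx : x ∈ W)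
    (a : Γ(T, W)) : a ∈ (hW.primeIdealOf ⟨x, hx⟩).asIdeal ↔ x ∉ T.basicOpen a := by
  have h : hW.fromSpec ⁻¹ᵁ T.basicOpen a = PrimeSpectrum.basicOpen a := hW.fromSpec_preimage_basicOpen a
  have h2 : hW.primeIdealOf ⟨x, hx⟩ ∈ PrimeSpectrum.basicOpen a ↔ x ∈ T.basicOpen a := by
    rw [← h]
    show hW.fromSpec (hW.primeIdealOf ⟨x, hx⟩) ∈ T.basicOpen a ↔ _
    rw [hW.fromSpec_primeIdealOf]
  rw [← h2]
  exact not_not.symm

theorem image_le_of_le {S : Scheme.{u}} (U : S.Opens) {W : U.toScheme.Opens} {O : S.Opens} :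
    U.ι ''ᵁ W ≤ O ↔ W ≤ U.ι ⁻¹ᵁ O := Set.image_subset_iff

/-- **Conditions cut out locally by two finitely generated ideals.** -/
theorem exists_immersion_of_charts {S : Scheme.{u}} (P : ∀ (T : Scheme.{u}), (T ⟶ S) → Prop)
    (hcomp : ∀ {T T' : Scheme.{u}} (j : T' ⟶ T) {t : T ⟶ S}, P T t → P T' (j ≫ t))
    (hlocal : ∀ {T : Scheme.{u}} (t : T ⟶ S), (∀ x : T, ∃ W : T.Opens, x ∈ W ∧ P _ (W.ι ≫ t)) → P T t)
    (Uset Rset : Set S)
    (hchart : ∀ s : S, ∃ (V : S.Opens) (_ : IsAffineOpen V) (I J : Ideal Γ(S, V)), s ∈ V ∧ I.FG ∧ J.FG ∧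
      (∀ y ∈ V, (y ∈ Uset ↔ ∃ j ∈ J, y ∈ S.basicOpen j) ∧
        (y ∈ Rset ↔ (∀ i ∈ I, y ∉ S.basicOpen i) ∧ y ∈ Uset)) ∧
      ∀ {T : Scheme.{u}} (u : T ⟶ S) (W : T.Opens) (_ : IsAffineOpen W) (e : W ≤ u ⁻¹ᵁ V),
        P _ (W.ι ≫ u) ↔ I.map (u.appLE V W e).hom = ⊥ ∧ J.map (u.appLE V W e).hom = ⊤) :
    ∃ (Z : Scheme.{u}) (ι : Z ⟶ S), IsImmersion ι ∧ LocallyOfFinitePresentation ι ∧ QuasiCompact ι ∧
      (∀ (T : Scheme.{u}) (u : T ⟶ S), (∃ u' : T ⟶ Z, u' ≫ ι = u) ↔ P T u) ∧ Set.range ι = Rset := by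
  choose V hV I J hsV hI hJ hset hch using hchart
  have hUopen : IsOpen Uset := isOpen_iff_forall_mem_open.2 fun s hs => by
    obtain ⟨j, hj, hsj⟩ := (hset s s (hsV s)).1.1 hs
    exact ⟨S.basicOpen j, fun y hy => (hset s y (S.basicOpen_le j hy)).1.2 ⟨j, hj, hy⟩, (S.basicOpen j).2, hsj⟩
  let U : S.Opens := ⟨Uset, hUopen⟩
  have hrange : ∀ {T : Scheme.{u}} (t : T ⟶ S), P T t → ∀ x : T, t x ∈ Uset := fun {T} t ht x => by
    let s := t x
    obtain ⟨W, hW, hxW, e⟩ := exists_isAffineOpen_mem_and_subset (show x ∈ t ⁻¹ᵁ V s from hsV s)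
    have h2 := ((hch s t W hW e).1 (hcomp W.ι ht)).2
    obtain ⟨j, hj, hjP⟩ := exists_notMem_of_map_eq_top _ _ h2 _ (hW.primeIdealOf ⟨x, hxW⟩).isPrime.ne_top
    have hx' : x ∈ T.basicOpen ((t.appLE (V s) W e).hom j) :=
      not_not.1 (mt (mem_primeIdealOf_iff hW hxW _).2 hjP)
    rw [Scheme.basicOpen_appLE] at hx'
    exact (hset s s (hsV s)).1.2 ⟨j, hj, hx'.2⟩
  let G : U.toScheme.Opens → Prop := fun W => ∃ (s : S) (j : Γ(S, V s)), j ∈ J s ∧ U.ι ''ᵁ W ≤ S.basicOpen j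
  let P' : ∀ T : Scheme.{u}, (T ⟶ U.toScheme) → Prop := fun T t => P T (t ≫ U.ι)
  have hG : ∀ y : U.toScheme, ∃ W : U.toScheme.Opens, y ∈ W ∧ G W := fun y => by
    obtain ⟨j, hj, hyj⟩ := (hset (U.ι y) (U.ι y) (hsV _)).1.1 y.2
    exact ⟨U.ι ⁻¹ᵁ S.basicOpen j, hyj, _, j, hj, (image_le_of_le U).2 le_rfl⟩
  have hchart' : ∀ (W : U.toScheme.Opens) (hW : IsAffineOpen W), G W → ∃ J' : Ideal Γ(U.toScheme, W), J'.FG ∧
      ∀ (C : CommRingCat.{u}) (χ : Γ(U.toScheme, W) ⟶ C),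
        P' _ (Spec.map χ ≫ hW.fromSpec) ↔ J' ≤ RingHom.ker χ.hom := by
    rintro W hW ⟨s, j, hj, hWj⟩
    have eW : W ≤ U.ι ⁻¹ᵁ V s := (image_le_of_le U).1 (hWj.trans (S.basicOpen_le j))
    let a := U.ι.appLE (V s) W eW
    have hau : IsUnit (a.hom j) := by
      refine U.toScheme.toRingedSpace.isUnit_of_isUnit_germ _ _ fun z hz => ?_
      have hz' : z ∈ U.toScheme.basicOpen (a.hom j) := by
        rw [Scheme.basicOpen_appLE]
        exact ⟨hz, (image_le_of_le U).1 hWj hz⟩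
      exact (Scheme.mem_basicOpen _ _ z hz).1 hz'
    refine ⟨(I s).map a.hom, (hI s).map _, fun C χ => ?_⟩
    have htop : (⊤ : (Spec C).Opens) ≤ (Spec.map χ ≫ hW.fromSpec) ⁻¹ᵁ W :=
      fun p _ => hW.range_fromSpec.le ⟨_, rfl⟩
    have htapp : (Spec.map χ ≫ hW.fromSpec).appLE W ⊤ htop = χ ≫ (Scheme.ΓSpecIso C).inv := by
      apply Spec.map_injective
      rw [← cancel_mono hW.fromSpec, IsAffineOpen.SpecMap_appLE_fromSpec _ _ (isAffineOpen_top (Spec C)),
        IsAffineOpen.fromSpec_top, Scheme.isoSpec_Spec_inv, Spec.map_comp, Category.assoc]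
    let t := (Spec.map χ ≫ hW.fromSpec) ≫ U.ι
    have e : (⊤ : (Spec C).Opens) ≤ t ⁻¹ᵁ V s := htop.trans ((Spec.map χ ≫ hW.fromSpec).preimage_mono eW)
    have hiff : P' _ (Spec.map χ ≫ hW.fromSpec) ↔ P _ ((⊤ : (Spec C).Opens).ι ≫ t) := by
      refine ⟨fun h => hcomp _ h, fun h => hlocal t fun x => ⟨⊤, trivial, h⟩⟩
    have hφ : t.appLE (V s) ⊤ e = a ≫ χ ≫ (Scheme.ΓSpecIso C).inv := by
      rw [← htapp]
      exact (Scheme.Hom.appLE_comp_appLE _ _ _ _ _ _ _).symm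
    rw [hiff, hch s t ⊤ (isAffineOpen_top _) e, hφ]
    have hu : IsUnit ((a ≫ χ ≫ (Scheme.ΓSpecIso C).inv).hom j) := by
      exact (hau.map χ.hom).map (Scheme.ΓSpecIso C).inv.hom
    have hJtop : (J s).map (a ≫ χ ≫ (Scheme.ΓSpecIso C).inv).hom = ⊤ :=
      Ideal.eq_top_of_isUnit_mem _ (Ideal.mem_map_of_mem _ hj) hu
    refine (and_iff_left hJtop).trans ?_
    rw [Ideal.map_eq_bot_iff_le_ker, Ideal.map_le_iff_le_comap, RingHom.comap_ker]
    have hker : RingHom.ker (a ≫ χ ≫ (Scheme.ΓSpecIso C).inv).hom = RingHom.ker (χ.hom.comp a.hom) := by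
      rw [← Category.assoc, CommRingCat.hom_comp]
      exact RingHom.ker_comp_of_injective _ (ConcreteCategory.bijective_of_isIso (Scheme.ΓSpecIso C).inv).1
    rw [hker]
  obtain ⟨𝓘, h𝓘⟩ := exists_ideal_iff P'
    (fun j t h => by show P _ ((j ≫ t) ≫ U.ι); rw [Category.assoc]; exact hcomp j h)
    (fun t h => hlocal (t ≫ U.ι) fun x => by
      obtain ⟨W, hxW, hW⟩ := h x
      exact ⟨W, hxW, by rw [← Category.assoc]; exact hW⟩)
    (fun {W W'} hWG hle => by
      obtain ⟨s, j, hj, hWj⟩ := hWG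
      exact ⟨s, j, hj, (U.ι.image_mono hle).trans hWj⟩)
    (fun W hW hWG => by obtain ⟨J', -, h⟩ := hchart' W hW hWG; exact ⟨J', h⟩) hG
  haveI : LocallyOfFinitePresentation 𝓘.subschemeι := by
    have hcov : ∀ y : U.toScheme, ∃ W : U.toScheme.affineOpens, y ∈ W.1 ∧ G W.1 := fun y => by
      obtain ⟨W₀, hy, hW₀⟩ := hG y
      obtain ⟨W, hW, hyW, hle⟩ := exists_isAffineOpen_mem_and_subset hy
      obtain ⟨s, j, hj, hWj⟩ := hW₀
      exact ⟨⟨W, hW⟩, hyW, s, j, hj, (U.ι.image_mono hle).trans hWj⟩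
    choose W hyW hWG using hcov
    rw [HasRingHomProperty.iff_exists_appLE (P := @LocallyOfFinitePresentation)
      (RingHom.finitePresentation_stableUnderComposition.stableUnderCompositionWithLocalizationAway
        RingHom.finitePresentation_holdsForLocalizationAway).1]
    intro d
    let y := 𝓘.subschemeι d
    refine ⟨W y, ⟨𝓘.subschemeι ⁻¹ᵁ (W y).1, (W y).2.preimage 𝓘.subschemeι⟩, hyW y, le_rfl, ?_⟩
    rw [← Scheme.Hom.app_eq_appLE]
    refine RingHom.FinitePresentation.of_surjective _ (𝓘.subschemeι_app_surjective (W y)) ?_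
    rw [Scheme.IdealSheafData.ker_subschemeι_app]
    obtain ⟨J', hJ', hJ''⟩ := hchart' (W y).1 (W y).2 (hWG y)
    have heq : 𝓘.ideal (W y) = J' := by
      refine le_antisymm ?_ ?_
      · let χ := CommRingCat.ofHom (Ideal.Quotient.mk J')
        have h := (h𝓘 (Spec.map χ ≫ (W y).2.fromSpec)).1 ((hJ'' _ χ).2 Ideal.mk_ker.ge)
        intro s hs
        have h1 := (Spec.map χ ≫ (W y).2.fromSpec).ideal_ker_le (W y) (h (W y) hs)
        have htop : (⊤ : (Spec (CommRingCat.of (Γ(U.toScheme, (W y).1) ⧸ J'))).Opens) ≤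
            (Spec.map χ ≫ (W y).2.fromSpec) ⁻¹ᵁ (W y).1 :=
          fun p _ => (W y).2.range_fromSpec.le ⟨_, rfl⟩
        have htapp : (Spec.map χ ≫ (W y).2.fromSpec).appLE (W y).1 ⊤ htop = χ ≫ (Scheme.ΓSpecIso _).inv := by
          apply Spec.map_injective
          rw [← cancel_mono (W y).2.fromSpec, IsAffineOpen.SpecMap_appLE_fromSpec _ _ (isAffineOpen_top _),
            IsAffineOpen.fromSpec_top, Scheme.isoSpec_Spec_inv, Spec.map_comp, Category.assoc]
        have h2 : ((Spec.map χ ≫ (W y).2.fromSpec).appLE (W y).1 ⊤ htop).hom s = 0 := by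
          show ((Spec _).presheaf.map (homOfLE htop).op) ((Spec.map χ ≫ (W y).2.fromSpec).app (W y).1 s) = 0
          rw [RingHom.mem_ker.1 h1]
          exact map_zero _
        rw [htapp] at h2
        exact Ideal.Quotient.eq_zero_iff_mem.1
          ((ConcreteCategory.bijective_of_isIso (Scheme.ΓSpecIso _).inv).1 (h2.trans (map_zero _).symm))
      · let mk := CommRingCat.ofHom (Ideal.Quotient.mk (𝓘.ideal (W y)))
        have h0 : P' _ 𝓘.subschemeι := (h𝓘 _).2 (by rw [Scheme.IdealSheafData.ker_subschemeι])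
        have h1 : P' _ (Spec.map mk ≫ (W y).2.fromSpec) := by
          have heq : Spec.map mk ≫ (W y).2.fromSpec = 𝓘.subschemeCover.f (W y) ≫ 𝓘.subschemeι := by
            rw [Scheme.IdealSheafData.subschemeCover_map_subschemeι, Scheme.IdealSheafData.glueDataObjι_ι]
          rw [heq]
          show P _ ((_ ≫ _) ≫ U.ι)
          rw [Category.assoc]
          exact hcomp _ h0
        exact ((hJ'' _ mk).1 h1).trans Ideal.mk_ker.le
    rw [heq]
    exact hJ'
  haveI : QuasiCompact U.ι := by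
    rw [HasAffineProperty.iff_of_iSup_eq_top (P := @QuasiCompact) (fun s => ⟨V s, hV s⟩)
      (top_le_iff.1 fun s _ => TopologicalSpace.Opens.mem_iSup.2 ⟨s, hsV s⟩)]
    intro s
    refine isCompact_iff_compactSpace.1 ?_
    rw [U.ι.isOpenEmbedding.isEmbedding.isCompact_iff]
    obtain ⟨F, hF⟩ := hJ s
    have heq : U.ι '' (U.ι ⁻¹ᵁ V s : Set U.toScheme) = ⋃ j ∈ F, (S.basicOpen j : Set S) := by
      ext y
      constructor
      · rintro ⟨z, hz, rfl⟩
        obtain ⟨j, hj, hzj⟩ := (hset s _ hz).1.1 z.2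
        by_contra hne
        simp only [Set.mem_iUnion, not_exists] at hne
        rw [← hF] at hj
        have : (Ideal.span (F : Set Γ(S, V s))) ≤ ((hV s).primeIdealOf ⟨_, hz⟩).asIdeal := Ideal.span_le.2 fun k hk =>
          (mem_primeIdealOf_iff (hV s) hz k).2 (hne k hk)
        exact (mem_primeIdealOf_iff (hV s) hz j).1 (this hj) hzj
      · simp only [Set.mem_iUnion]
        rintro ⟨j, hj, hyj⟩
        have hyV : y ∈ V s := S.basicOpen_le j hyj
        exact ⟨⟨y, (hset s y hyV).1.2 ⟨j, hF ▸ Submodule.subset_span hj, hyj⟩⟩, hyV, rfl⟩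
    rw [heq]
    exact F.finite_toSet.isCompact_biUnion fun j _ => ((hV s).basicOpen j).isCompact
  let ι := 𝓘.subschemeι ≫ U.ι
  have huniv : ∀ (T : Scheme.{u}) (u : T ⟶ S), (∃ u' : T ⟶ 𝓘.subscheme, u' ≫ ι = u) ↔ P T u := by
    intro T u
    constructor
    · rintro ⟨u', rfl⟩
      exact hcomp u' ((h𝓘 _).2 (by rw [Scheme.IdealSheafData.ker_subschemeι]))
    · intro h
      have hr : Set.range u ⊆ Set.range U.ι := by
        rw [Scheme.Opens.range_ι]
        rintro _ ⟨x, rfl⟩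
        exact hrange u h x
      let v := IsOpenImmersion.lift U.ι u hr
      have hv : v ≫ U.ι = u := IsOpenImmersion.lift_fac _ _ _
      have hker : 𝓘.subschemeι.ker ≤ v.ker := by
        rw [Scheme.IdealSheafData.ker_subschemeι]
        exact (h𝓘 v).1 (by show P _ (v ≫ U.ι); rwa [hv])
      exact ⟨IsClosedImmersion.lift 𝓘.subschemeι v hker, by
        rw [← Category.assoc, IsClosedImmersion.lift_fac, hv]⟩
  refine ⟨𝓘.subscheme, ι, inferInstance, inferInstance, inferInstance, huniv, ?_⟩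
  ext s
  constructor
  · rintro ⟨z, rfl⟩
    have hP : P _ ι := (huniv _ ι).1 ⟨𝟙 _, Category.id_comp _⟩
    have hU : ι z ∈ Uset := hrange ι hP z
    obtain ⟨W, hW, hzW, e⟩ := exists_isAffineOpen_mem_and_subset (show z ∈ ι ⁻¹ᵁ V (ι z) from hsV _)
    have h1 := ((hch (ι z) ι W hW e).1 (hcomp W.ι hP)).1
    refine (hset (ι z) _ (hsV _)).2.2 ⟨fun i hi hzi => ?_, hU⟩
    have h2 : (ι.appLE (V (ι z)) W e).hom i = 0 :=
      (Submodule.mem_bot _).1 (h1 ▸ Ideal.mem_map_of_mem _ hi)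
    have h3 : z ∈ 𝓘.subscheme.basicOpen ((ι.appLE (V (ι z)) W e).hom i) := by
      rw [Scheme.basicOpen_appLE]
      exact ⟨hzW, hzi⟩
    rw [h2, Scheme.basicOpen_zero] at h3
    exact h3
  · intro hs
    obtain ⟨hIs, hsU⟩ := (hset s s (hsV s)).2.1 hs
    obtain ⟨j, hj, hsj⟩ := (hset s s (hsV s)).1.1 hsU
    let q := S.fromSpecResidueField s
    haveI : Subsingleton ↥(Spec (S.residueField s)) := inferInstanceAs (Subsingleton (PrimeSpectrum _))
    have hq : ∀ w, q w = s := Scheme.fromSpecResidueField_apply s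
    have e : (⊤ : (Spec (S.residueField s)).Opens) ≤ q ⁻¹ᵁ V s := fun w _ => by
      show q w ∈ V s
      rw [hq w]; exact hsV s
    have hempty : ∀ i ∈ I s, (q.appLE (V s) ⊤ e).hom i = 0 := fun i hi => by
      let iso := Scheme.ΓSpecIso (S.residueField s)
      by_contra h0
      have h1 : IsUnit (iso.hom.hom ((q.appLE (V s) ⊤ e).hom i)) := isUnit_iff_ne_zero.2 fun h =>
        h0 ((ConcreteCategory.bijective_of_isIso iso.hom).1 (h.trans (map_zero iso.hom.hom).symm))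
      have h2 : IsUnit ((q.appLE (V s) ⊤ e).hom i) := by
        have := h1.map iso.inv.hom
        rwa [show iso.inv.hom (iso.hom.hom ((q.appLE (V s) ⊤ e).hom i)) = (q.appLE (V s) ⊤ e).hom i from
          iso.hom_inv_id_apply _] at this
      let z : ↥(Spec (S.residueField s)) := IsLocalRing.closedPoint (S.residueField s)
      have h3 : z ∈ (Spec (S.residueField s)).basicOpen ((q.appLE (V s) ⊤ e).hom i) :=
        (Scheme.mem_basicOpen _ ((q.appLE (V s) ⊤ e).hom i) z trivial).2 (h2.map ((Spec (S.residueField s)).presheaf.germ ⊤ z trivial).hom)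
      rw [Scheme.basicOpen_appLE] at h3
      have h4 : q z ∈ S.basicOpen i := h3.2
      rw [hq z] at h4
      exact hIs i hi h4
    have hunit : IsUnit ((q.appLE (V s) ⊤ e).hom j) := by
      refine (Spec (S.residueField s)).toRingedSpace.isUnit_of_isUnit_germ _ _ fun w hw => ?_
      have hw' : w ∈ (Spec (S.residueField s)).basicOpen ((q.appLE (V s) ⊤ e).hom j) := by
        rw [Scheme.basicOpen_appLE]
        exact ⟨hw, show q w ∈ S.basicOpen j by rw [hq w]; exact hsj⟩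
      exact (Scheme.mem_basicOpen _ _ w hw).1 hw'
    have hP : P _ q := hlocal q fun x => ⟨⊤, trivial, (hch s q ⊤ (isAffineOpen_top _) e).2
      ⟨Ideal.map_eq_bot_iff_le_ker _ |>.2 fun i hi => RingHom.mem_ker.2 (hempty i hi),
        Ideal.eq_top_of_isUnit_mem _ (Ideal.mem_map_of_mem _ hj) hunit⟩⟩
    obtain ⟨q', hq'⟩ := (huniv _ q).2 hP
    exact ⟨q' (IsLocalRing.closedPoint (S.residueField s)), by rw [← Scheme.Hom.comp_apply, hq', hq]⟩

end GrothLib.LocClosedRep
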