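import Mathlib.AlgebraicGeometry.Morphisms.ClosedImmersion
import Mathlib.AlgebraicGeometry.IdealSheaf.Subscheme
import Mathlib.RingTheory.Localization.Away.Basic

/-! # Local conditions cut out by ideals on charts are closed subschemes -/

set_option linter.style.haveILetI false
universe u

open CategoryTheory CategoryTheory.Limits AlgebraicGeometry Opposite

namespace GrothLib.LocClosedRep

variable {Y : Scheme.{u}} (P : ∀ (T : Scheme.{u}), (T ⟶ Y) → Prop)
  (hcomp : ∀ {T T' : Scheme.{u}} (j : T' ⟶ T) {t : T ⟶ Y}, P T t → P T' (j ≫ t))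
  (hlocal : ∀ {T : Scheme.{u}} (t : T ⟶ Y), (∀ x : T, ∃ W : T.Opens, x ∈ W ∧ P _ (W.ι ≫ t)) → P T t)
  {G : Y.Opens → Prop} (hGmono : ∀ {V W : Y.Opens}, G V → W ≤ V → G W)
  (hchart : ∀ (V : Y.Opens) (hV : IsAffineOpen V), G V → ∃ J : Ideal Γ(Y, V), ∀ (C : CommRingCat.{u}) (χ : Γ(Y, V) ⟶ C),
    P _ (Spec.map χ ≫ hV.fromSpec) ↔ J ≤ RingHom.ker χ.hom)

/-- The candidate ideal. -/
noncomputable def locIdeal (V : Y.Opens) (hV : IsAffineOpen V) : Ideal Γ(Y, V) :=
  ⨅ (C : CommRingCat.{u}) (χ : Γ(Y, V) ⟶ C) (_ : P _ (Spec.map χ ≫ hV.fromSpec)), RingHom.ker χ.hom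

theorem mem_locIdeal {V : Y.Opens} {hV : IsAffineOpen V} {s : Γ(Y, V)} :
    s ∈ locIdeal P V hV ↔
      ∀ (C : CommRingCat.{u}) (χ : Γ(Y, V) ⟶ C), P _ (Spec.map χ ≫ hV.fromSpec) → χ s = 0 := by
  simp only [locIdeal, Ideal.mem_iInf, RingHom.mem_ker]

theorem locIdeal_le {V : Y.Opens} {hV : IsAffineOpen V} {C : CommRingCat.{u}} (χ : Γ(Y, V) ⟶ C)
    (h : P _ (Spec.map χ ≫ hV.fromSpec)) : locIdeal P V hV ≤ RingHom.ker χ.hom :=
  fun _ hs => RingHom.mem_ker.2 ((mem_locIdeal P).1 hs C χ h)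

include hchart in
theorem iff_of_good {V : Y.Opens} (hV : IsAffineOpen V) (hg : G V) (C : CommRingCat.{u})
    (χ : Γ(Y, V) ⟶ C) :
    P _ (Spec.map χ ≫ hV.fromSpec) ↔ locIdeal P V hV ≤ RingHom.ker χ.hom := by
  obtain ⟨J, hJ⟩ := hchart V hV hg
  refine ⟨locIdeal_le P χ, fun h => (hJ C χ).2 (le_trans ?_ h)⟩
  exact fun s hs => (mem_locIdeal P).2 fun C χ hχ => RingHom.mem_ker.1 ((hJ C χ).1 hχ hs)

theorem res_mem_locIdeal {V W : Y.Opens} (hV : IsAffineOpen V) (hW : IsAffineOpen W) (e : W ≤ V) {s : Γ(Y, V)}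
    (hs : s ∈ locIdeal P V hV) :
    Y.presheaf.map (homOfLE e).op s ∈ locIdeal P W hW := by
  rw [mem_locIdeal] at hs ⊢
  intro C χ hχ
  refine hs C (Y.presheaf.map (homOfLE e).op ≫ χ) ?_
  rwa [Spec.map_comp, Category.assoc, hV.map_fromSpec hW (homOfLE e).op]

include hchart in
theorem map_locIdeal_of_good {V : Y.Opens} (hV : IsAffineOpen V) (hg : G V) (r : Γ(Y, V)) :
    locIdeal P (Y.basicOpen r) (hV.basicOpen r) ≤
      (locIdeal P V hV).map (Y.presheaf.map (homOfLE <| Y.basicOpen_le r).op).hom := by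
  set ρ := Y.presheaf.map (homOfLE <| Y.basicOpen_le r).op
  let mk := CommRingCat.ofHom (Ideal.Quotient.mk ((locIdeal P V hV).map ρ.hom))
  have h1 : P _ (Spec.map (ρ ≫ mk) ≫ hV.fromSpec) :=
    (iff_of_good P hchart hV hg _ _).2 fun s hs =>
      RingHom.mem_ker.2 (Ideal.Quotient.eq_zero_iff_mem.2 (Ideal.mem_map_of_mem _ hs))
  rw [Spec.map_comp, Category.assoc, hV.map_fromSpec (hV.basicOpen r)] at h1
  intro s hs
  exact Ideal.Quotient.eq_zero_iff_mem.1 (locIdeal_le P mk h1 hs)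

include hcomp in
/-- Membership is local on a cover by basic opens. -/
theorem mem_locIdeal_of_span {V : Y.Opens} (hV : IsAffineOpen V) (F : Set Γ(Y, V)) (hF : Ideal.span F = ⊤)
    {s : Γ(Y, V)} (h : ∀ x ∈ F, Y.presheaf.map (homOfLE (Y.basicOpen_le x)).op s ∈
      locIdeal P (Y.basicOpen x) (hV.basicOpen x)) :
    s ∈ locIdeal P V hV := by
  rw [mem_locIdeal]
  intro C χ hχ
  have hann : ∀ x ∈ F, ∃ k : ℕ, χ x ^ k * χ s = 0 := by
    intro x hx
    letI : Algebra Γ(Y, V) Γ(Y, Y.basicOpen x) :=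
      (Y.presheaf.map (homOfLE (Y.basicOpen_le x)).op).hom.toAlgebra
    haveI : IsLocalization.Away x Γ(Y, Y.basicOpen x) := hV.isLocalization_basicOpen x
    have hu : IsUnit (((algebraMap C (Localization.Away (χ x))).comp χ.hom) x) :=
      IsLocalization.Away.algebraMap_isUnit (χ x)
    let χx : Γ(Y, Y.basicOpen x) ⟶ CommRingCat.of (Localization.Away (χ x)) :=
      CommRingCat.ofHom (IsLocalization.Away.lift (S := Γ(Y, Y.basicOpen x)) x hu)
    have hcomm : Y.presheaf.map (homOfLE (Y.basicOpen_le x)).op ≫ χx =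
        χ ≫ CommRingCat.ofHom (algebraMap C (Localization.Away (χ x))) :=
      CommRingCat.hom_ext (IsLocalization.Away.lift_comp x hu)
    have hfx : P _ (Spec.map χx ≫ (hV.basicOpen x).fromSpec) := by
      rw [← hV.map_fromSpec (hV.basicOpen x) (homOfLE (Y.basicOpen_le x)).op, ← Category.assoc,
        ← Spec.map_comp, hcomm, Spec.map_comp, Category.assoc]
      exact hcomp _ hχ
    have h1 : algebraMap C (Localization.Away (χ x)) (χ s) = 0 :=
      (congr($(hcomm) s)).symm.trans (RingHom.mem_ker.1 (locIdeal_le P χx hfx (h x hx)))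
    obtain ⟨⟨_, k, rfl⟩, hk⟩ :=
      (IsLocalization.map_eq_zero_iff (Submonoid.powers (χ x)) (Localization.Away (χ x)) (χ s)).1 h1
    exact ⟨k, hk⟩
  let ann : Ideal C := (Submodule.span C {χ s}).annihilator
  have hrad : (Ideal.span F).map χ.hom ≤ ann.radical := by
    rw [Ideal.map_span, Ideal.span_le]
    rintro _ ⟨x, hx, rfl⟩
    obtain ⟨k, hk⟩ := hann x hx
    exact ⟨k, Submodule.mem_annihilator_span_singleton _ _ |>.2 (by simpa using hk)⟩
  rw [hF, Ideal.map_top] at hrad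
  obtain ⟨k, hk⟩ := hrad (Submodule.mem_top (x := (1 : C)))
  rw [one_pow] at hk
  simpa using (Submodule.mem_annihilator_span_singleton _ _).1 hk

include hchart in
/-- On a good piece, a numerator of an element of the ideal of a basic open is, up to a power, in the ideal. -/
theorem exists_pow_mem {V : Y.Opens} (hV : IsAffineOpen V) (hg : G V) (r b : Γ(Y, V))
    (hb : Y.presheaf.map (homOfLE (Y.basicOpen_le r)).op b ∈ locIdeal P (Y.basicOpen r) (hV.basicOpen r)) :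
    ∃ m : ℕ, r ^ m * b ∈ locIdeal P V hV := by
  have h := map_locIdeal_of_good P hchart hV hg r hb
  letI : Algebra Γ(Y, V) Γ(Y, Y.basicOpen r) := (Y.presheaf.map (homOfLE (Y.basicOpen_le r)).op).hom.toAlgebra
  haveI : IsLocalization.Away r Γ(Y, Y.basicOpen r) := hV.isLocalization_basicOpen r
  obtain ⟨_, ⟨m, rfl⟩, hm⟩ :=
    (IsLocalization.algebraMap_mem_map_algebraMap_iff (Submonoid.powers r) Γ(Y, Y.basicOpen r) _ _).1 h
  exact ⟨m, hm⟩

include hcomp hchart hGmono in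
theorem map_locIdeal (hgood : ∀ y : Y, ∃ V : Y.Opens, y ∈ V ∧ G V) {V : Y.Opens} (hV : IsAffineOpen V)
    (r : Γ(Y, V)) :
    (locIdeal P V hV).map (Y.presheaf.map (homOfLE <| Y.basicOpen_le r).op).hom =
      locIdeal P (Y.basicOpen r) (hV.basicOpen r) := by
  classical
  refine le_antisymm (Ideal.map_le_iff_le_comap.2 fun s hs => res_mem_locIdeal P hV _ _ hs) ?_
  intro a ha
  letI : Algebra Γ(Y, V) Γ(Y, Y.basicOpen r) := (Y.presheaf.map (homOfLE (Y.basicOpen_le r)).op).hom.toAlgebra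
  haveI : IsLocalization.Away r Γ(Y, Y.basicOpen r) := hV.isLocalization_basicOpen r
  obtain ⟨n, b, hb⟩ := IsLocalization.Away.surj r a
  have hb' : Y.presheaf.map (homOfLE (Y.basicOpen_le r)).op b ∈
      locIdeal P (Y.basicOpen r) (hV.basicOpen r) := by
    change algebraMap Γ(Y, V) Γ(Y, Y.basicOpen r) b ∈ _
    rw [← hb]
    exact Ideal.mul_mem_right _ _ ha
  have hspan : Ideal.span {x : Γ(Y, V) | G (Y.basicOpen x)} = ⊤ := by
    rw [← hV.iSup_basicOpen_eq_self_iff]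
    refine le_antisymm (iSup_le fun x => Y.basicOpen_le _) fun y hy => ?_
    obtain ⟨V', hy', hV'⟩ := hgood y
    obtain ⟨x, hx, hyx⟩ := hV.exists_basicOpen_le ⟨y, hy'⟩ hy
    exact TopologicalSpace.Opens.mem_iSup.2 ⟨⟨x, hGmono hV' hx⟩, hyx⟩
  obtain ⟨F, hF, hFspan⟩ := Submodule.mem_span_finite_of_mem_span
    (show (1 : Γ(Y, V)) ∈ Ideal.span _ from hspan ▸ Submodule.mem_top)
  have hFtop : Ideal.span (F : Set Γ(Y, V)) = ⊤ := (Ideal.eq_top_iff_one _).2 hFspan
  have hloc : ∀ x ∈ F, ∃ m : ℕ, Y.presheaf.map (homOfLE (Y.basicOpen_le x)).op (r ^ m * b) ∈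
      locIdeal P (Y.basicOpen x) (hV.basicOpen x) := by
    intro x hx
    have hle : Y.basicOpen (Y.presheaf.map (homOfLE (Y.basicOpen_le x)).op r) ≤ Y.basicOpen r := by
      rw [Scheme.basicOpen_res]; exact inf_le_right
    obtain ⟨m, hm⟩ := exists_pow_mem P hchart (hV.basicOpen x) (hF hx)
      (Y.presheaf.map (homOfLE (Y.basicOpen_le x)).op r) (Y.presheaf.map (homOfLE (Y.basicOpen_le x)).op b)
      (by
        have h1 := res_mem_locIdeal P (hV.basicOpen r) ((hV.basicOpen x).basicOpen _) hle hb'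
        rw [← CommRingCat.comp_apply, ← Functor.map_comp] at h1
        rw [← CommRingCat.comp_apply, ← Functor.map_comp]
        exact h1)
    exact ⟨m, by rw [map_mul, map_pow]; exact hm⟩
  choose! m hm using hloc
  have hfin : r ^ F.sup m * b ∈ locIdeal P V hV :=
    mem_locIdeal_of_span P hcomp hV F hFtop fun x hx => by
      rw [← Nat.sub_add_cancel (show m x ≤ F.sup m from Finset.le_sup hx), pow_add, mul_assoc, map_mul]
      exact Ideal.mul_mem_left _ _ (hm x hx)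
  have hmem := Ideal.mem_map_of_mem (Y.presheaf.map (homOfLE (Y.basicOpen_le r)).op).hom hfin
  change algebraMap Γ(Y, V) Γ(Y, Y.basicOpen r) (r ^ F.sup m * b) ∈ _ at hmem
  rw [map_mul, ← hb, map_pow, mul_left_comm, ← pow_add] at hmem
  exact (Ideal.mul_unit_mem_iff_mem _ ((IsLocalization.Away.algebraMap_isUnit r).pow _)).1 hmem

include hcomp hlocal hchart hGmono in
/-- The locus is represented by a closed subscheme. -/
theorem exists_ideal_iff (hgood : ∀ y : Y, ∃ V : Y.Opens, y ∈ V ∧ G V) :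
    ∃ I : Y.IdealSheafData, ∀ {T : Scheme.{u}} (t : T ⟶ Y), P _ t ↔ I ≤ t.ker := by
  refine ⟨{ ideal := fun V => locIdeal P V.1 V.2
            map_ideal_basicOpen := fun V r => map_locIdeal P hcomp hGmono hchart hgood V.2 r },
    fun {T} t => ⟨fun h => ?_, fun h => ?_⟩⟩
  · refine Scheme.IdealSheafData.le_ofIdeals_iff.2 fun V s hs => ?_
    rw [RingHom.mem_ker]
    refine T.IsSheaf.section_ext fun x hx => ?_
    obtain ⟨_, ⟨W, hW, rfl⟩, hxW, hWV : W ≤ t ⁻¹ᵁ V.1⟩ :=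
      T.isBasis_affineOpens.exists_subset_of_mem_open hx (t ⁻¹ᵁ V.1).isOpen
    refine ⟨W, hWV, hxW, ?_⟩
    have h1 : P _ (Spec.map (t.appLE V.1 W hWV) ≫ V.2.fromSpec) := by
      rw [IsAffineOpen.SpecMap_appLE_fromSpec t V.2 hW]
      exact hcomp _ h
    rw [map_zero]
    exact RingHom.mem_ker.1 (locIdeal_le P _ h1 hs)
  · have hloc : ∀ x : T, ∃ W : T.Opens, x ∈ W ∧ IsAffineOpen W ∧
        ∃ V : Y.affineOpens, W ≤ t ⁻¹ᵁ V.1 ∧ G V.1 := by
      intro x
      obtain ⟨V', hxV', hV'⟩ := hgood (t x)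
      obtain ⟨_, ⟨V, hV, rfl⟩, hxV, hVV'⟩ :=
        Y.isBasis_affineOpens.exists_subset_of_mem_open hxV' V'.isOpen
      obtain ⟨_, ⟨W, hW, rfl⟩, hxW, hWV⟩ :=
        T.isBasis_affineOpens.exists_subset_of_mem_open (show x ∈ t ⁻¹ᵁ V from hxV) (t ⁻¹ᵁ V).isOpen
      exact ⟨W, hxW, hW, ⟨V, hV⟩, hWV, hGmono hV' hVV'⟩
    choose W hxW hW V hWV hVg using hloc
    refine hlocal t fun x => ⟨W x, hxW x, ?_⟩
    rw [← (hW x).isoSpec_hom_fromSpec, Category.assoc, ← IsAffineOpen.SpecMap_appLE_fromSpec t (V x).2 (hW x) (hWV x)]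
    refine hcomp _ ((iff_of_good P hchart (V x).2 (hVg x) _ _).2 fun s hs => ?_)
    have h1 : t.app (V x).1 s = 0 := RingHom.mem_ker.1 (t.ideal_ker_le _ (h (V x) hs))
    rw [RingHom.mem_ker]
    change (t.app (V x).1 ≫ _) s = 0
    exact (congrArg _ h1).trans (map_zero (T.presheaf.map (homOfLE (hWV x)).op).hom)

end GrothLib.LocClosedRep
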